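import Groth.Agent.Pic13.H969.Bridge
import Groth.Agent.Pic13.H504.Descent
import Groth.Agent.Pic13.H965.LFT
import Groth.Prelude.Def_PicRel2
import Mathlib.AlgebraicGeometry.AlgClosed.Basic

/-!
# Bounded families of invertible modules and quasi-compact open subsets of the Picard scheme

`X` proper over an algebraically closed field `k`, `P` representing the étale sheafified relative Picard functor.

* `kpt hφ L` : the classifying point `Spec k ⟶ P` of a class on `X`.
* `fibCl_eq_of_cm` : if `t : Spec k ⟶ T` composed with the classifying map of a class `c` on `X ×_k T` is the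
  classifying point of `a`, then the fibre of `c` at `t` is `a`.
* `bddPic_iff` : a set of classes is bounded iff all its points lie in a quasi-compact open subset.
-/

set_option autoImplicit false
universe u

open CategoryTheory Limits AlgebraicGeometry Opposite
open Groth.Agent
open Groth.Agent.Ega3A.PicDiv Groth.Agent.Ega3A.PicEtSh Groth.Agent.Grpsch.PicGrp
open Groth.Agent.Ega3A.PicSheaf Groth.Agent.Ega3A.PicLocBase Groth.Agent.Fga.RigGrp
open Groth.Agent.Pic13.H138.Slice Groth.Agent.Pic13.H138.BddPic Groth.Agent.Pic13.H965.RelGrp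

namespace K991.BddOpen

/-- A nonempty scheme locally of finite type over an algebraically closed field has a rational point. -/
theorem exists_point {k : Type u} [Field k] [IsAlgClosed k] {X : Scheme.{u}} (f : X ⟶ Spec (CommRingCat.of k))
    [LocallyOfFiniteType f] [Nonempty X] : ∃ σ : Spec (CommRingCat.of k) ⟶ X, σ ≫ f = 𝟙 _ := by
  have : JacobsonSpace X := LocallyOfFiniteType.jacobsonSpace f
  have h1 : closure ((Set.univ : Set X) ∩ closedPoints X) = Set.univ :=
    JacobsonSpace.closure_inter_closedPoints isClosed_univ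
  have h2 : (closedPoints X).Nonempty := by
    by_contra h
    rw [Set.not_nonempty_iff_eq_empty] at h
    rw [h, Set.inter_empty, closure_empty] at h1
    exact Set.empty_ne_univ h1
  obtain ⟨x, hx⟩ := h2
  exact ⟨pointOfClosedPoint f x hx, pointOfClosedPoint_comp f x hx⟩

/-- Every compact subset of a scheme is contained in a quasi-compact open subset. -/
theorem exists_opens {X : Scheme.{u}} {s : Set X} (hs : IsCompact s) :
    ∃ U : X.Opens, IsCompact (U : Set X) ∧ s ⊆ U := by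
  obtain ⟨t, ht⟩ := hs.elim_finite_subcover (fun V : X.affineOpens => (V.1 : Set X)) (fun V => V.1.2)
    (fun x _ => by
      obtain ⟨V, hV, hx, -⟩ := exists_isAffineOpen_mem_and_subset (U := (⊤ : X.Opens)) (x := x) trivial
      exact Set.mem_iUnion.2 ⟨⟨V, hV⟩, hx⟩)
  refine ⟨⟨⋃ V ∈ t, (V.1 : Set X), isOpen_biUnion fun V _ => V.1.2⟩, ?_, ht⟩
  exact t.isCompact_biUnion fun V _ => V.2.isCompact

variable {k : Type u} [Field k] (X : Scheme.{u}) [X.Over (Spec (CommRingCat.of k))]

local notation "Sk" => Spec (CommRingCat.of k)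

/-- The base. -/
noncomputable abbrev T0 : Over Sk := Over.mk (𝟙 Sk)

variable (k) in
/-- `X` is identified with `X ×_k k`. -/
noncomputable abbrev fs : PicF.XT (X ↘ Sk) (T0 (k := k)) ⟶ X := pullback.fst (X ↘ Sk) (𝟙 Sk)

/-- A `k`-point as a morphism over `k`. -/
noncomputable abbrev ptO {T : Scheme.{u}} (q : T ⟶ Sk) (t : Sk ⟶ T) (ht : t ≫ q = 𝟙 _) : T0 (k := k) ⟶ Over.mk q :=
  Over.homMk t ht

theorem fs_slice {T : Scheme.{u}} (q : T ⟶ Sk) (t : Sk ⟶ T) (ht : t ≫ q = 𝟙 _) :
    fs k X ≫ Pic13.sliceAt k X q t ht = PicF.XTmap (X ↘ Sk) (ptO q t ht) := by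
  apply pullback.hom_ext
  · rw [Category.assoc, sliceAt_fst, Category.comp_id]
    exact (pullback.lift_fst _ _ _).symm
  · rw [Category.assoc, sliceAt_snd, ← Category.assoc]
    have h : fs k X ≫ (X ↘ Sk) = pullback.snd (X ↘ Sk) (𝟙 Sk) := by
      rw [pullback.condition, Category.comp_id]
    rw [h]
    exact (pullback.lift_snd _ _ _).symm

theorem pu_pt {T : Scheme.{u}} (q : T ⟶ Sk) (t : Sk ⟶ T) (ht : t ≫ q = 𝟙 _)
    (c : Pic (PicF.XT (X ↘ Sk) (Over.mk q))) :
    pu (X ↘ Sk) (ptO q t ht) c = pull (fs k X) (fibCl k X q t ht c) := by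
  rw [pu, ← fs_slice, pull_comp]
  rfl

instance isIso_fs : IsIso (fs k X) := inferInstance

theorem pull_fs_injective : Function.Injective (pull (fs k X)) := by
  intro a b h
  have := congrArg (pull (inv (fs k X))) h
  rwa [← pull_comp, ← pull_comp, IsIso.inv_hom_id, pull_id, pull_id] at this

end K991.BddOpen

namespace K991.BddOpen

/-- The classifying point of a class. -/
noncomputable def kpt {k : Type u} [Field k] {X : Scheme.{u}} [X.Over (Spec (CommRingCat.of k))] {P : Over (Spec (CommRingCat.of k))}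
    (φ : ∀ T : Over (Spec (CommRingCat.of k)), PicF.Cl (PicF.XT (X ↘ (Spec (CommRingCat.of k))) T) → (T ⟶ P)) (a : Pic X) : T0 (k := k) ⟶ P :=
  cm (f := X ↘ (Spec (CommRingCat.of k))) φ (T := T0 (k := k)) (pull (fs k X) a)

variable {k : Type u} [Field k] {X : Scheme.{u}} [X.Over (Spec (CommRingCat.of k))]
  {P : Over (Spec (CommRingCat.of k))} {φ : ∀ T : Over (Spec (CommRingCat.of k)), PicF.Cl (PicF.XT (X ↘ (Spec (CommRingCat.of k))) T) → (T ⟶ P)}

theorem kpt_mk {L : X.Modules} (hL : PicF.IsInvertible L) :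
    kpt φ (mk L hL) = φ (T0 (k := k)) (PicF.pullCl (fs k X) (PicF.cl L)) := by
  rw [kpt, cm, toCl_pull, toCl_mk]

variable (hφ : PicRel.IsRelPic (X ↘ (Spec (CommRingCat.of k))) P φ)

include hφ

theorem kpt_fibCl {T : Scheme.{u}} (q : T ⟶ (Spec (CommRingCat.of k))) (t : (Spec (CommRingCat.of k)) ⟶ T) (ht : t ≫ q = 𝟙 _)
    (c : Pic (PicF.XT (X ↘ (Spec (CommRingCat.of k))) (Over.mk q))) :
    kpt φ (fibCl k X q t ht c) = ptO q t ht ≫ cm (f := X ↘ (Spec (CommRingCat.of k))) φ c := by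
  rw [kpt, ← pu_pt, cm_pu hφ]

/-- Over an algebraically closed field a class is determined by its classifying point. -/
theorem cm_injective [IsAlgClosed k] :
    Function.Injective (cm (f := X ↘ (Spec (CommRingCat.of k))) φ (T := T0 (k := k))) := by
  intro a b h
  obtain ⟨𝒰, h𝒰⟩ := (cm_eq_iff hφ).mp h
  obtain ⟨i, v, -⟩ := 𝒰.covers (IsLocalRing.closedPoint k)
  have hne : Nonempty (𝒰.V i).left := ⟨v⟩
  have hw : (𝒰.j i).left = (𝒰.V i).hom := by
    have := Over.w (𝒰.j i)
    exact (Category.comp_id _).symm.trans this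
  have hlft : LocallyOfFiniteType (𝒰.V i).hom := by
    rw [← hw]
    infer_instance
  obtain ⟨σ, hσ⟩ := exists_point (𝒰.V i).hom
  let s : T0 (k := k) ⟶ 𝒰.V i := Over.homMk σ hσ
  have hs : s ≫ 𝒰.j i = 𝟙 _ := by
    apply Over.OverMorphism.ext
    change σ ≫ (𝒰.j i).left = 𝟙 _
    rw [hw, hσ]
  have h1 := congrArg (pu (X ↘ (Spec (CommRingCat.of k))) s) (h𝒰 i)
  rw [← pu_comp, ← pu_comp, hs, pu_id, pu_id] at h1
  exact h1

theorem kpt_injective [IsAlgClosed k] : Function.Injective (kpt (X := X) φ) := fun _ _ h =>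
  pull_fs_injective X (cm_injective hφ h)

/-- Bounded sets of classes have their points in a quasi-compact open subset. -/
theorem exists_opens_of_bddPic {A : Set (Pic X)} (hA : BddPic k X A) :
    ∃ U : P.left.Opens, IsCompact (U : Set ↥P.left) ∧ ∀ a ∈ A, Set.range (kpt φ a).left.base ⊆ (U : Set ↥P.left) := by
  obtain ⟨T, q, h1, h2, c, hc⟩ := hA
  have hT : CompactSpace T := (quasiCompact_iff_compactSpace (f := q)).mp inferInstance
  have hT' : CompactSpace (Over.mk q).left := hT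
  obtain ⟨U, hU, hU'⟩ := exists_opens (isCompact_range (cm (f := X ↘ (Spec (CommRingCat.of k))) φ (T := Over.mk q) c).left.base.hom.2)
  refine ⟨U, hU, fun a ha => ?_⟩
  obtain ⟨t, ht, rfl⟩ := hc a ha
  rw [kpt_fibCl hφ]
  rintro _ ⟨x, rfl⟩
  exact hU' ⟨t.base x, rfl⟩

/-- Classes whose points lie in a quasi-compact open subset form a bounded set. -/
theorem bddPic_of_opens [IsAlgClosed k] [QuasiCompact (X ↘ (Spec (CommRingCat.of k)))] [QuasiSeparated (X ↘ (Spec (CommRingCat.of k)))] (U : P.left.Opens)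
    (hU : IsCompact (U : Set ↥P.left)) :
    BddPic k X {a | Set.range (kpt φ a).left.base ⊆ (U : Set ↥P.left)} := by
  have hlft : LocallyOfFiniteType P.hom := Pic13.H965.LFT.locallyOfFiniteType_hom hφ
  obtain ⟨𝒰, c, hc⟩ := exists_cm hφ (𝟙 P)
  -- affine pieces
  let I := Σ i : 𝒰.ι, (𝒰.V i).left.affineOpens
  let W : I → Scheme.{u} := fun p => p.2.1
  let w : ∀ p : I, W p ⟶ (𝒰.V p.1).left := fun p => p.2.1.ι
  let g : ∀ p : I, W p ⟶ P.left := fun p => w p ≫ (𝒰.j p.1).left
  have hg : ∀ p, Etale (g p) := fun p => inferInstance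
  obtain ⟨s, hs⟩ := hU.elim_finite_subcover (fun p : I => Set.range (g p).base)
    (fun p => (g p).isOpenMap.isOpen_range) (fun x _ => by
      obtain ⟨i, v, hv⟩ := 𝒰.covers x
      obtain ⟨V, hV, hx, -⟩ := exists_isAffineOpen_mem_and_subset (U := (⊤ : (𝒰.V i).left.Opens)) (x := v) trivial
      refine Set.mem_iUnion.2 ⟨⟨i, V, hV⟩, ⟨v, hx⟩, ?_⟩
      exact hv)
  let q : ∀ p : I, W p ⟶ (Spec (CommRingCat.of k)) := fun p => w p ≫ (𝒰.V p.1).hom
  have hq : ∀ p, q p = g p ≫ P.hom := fun p => by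
    change w p ≫ (𝒰.V p.1).hom = (w p ≫ (𝒰.j p.1).left) ≫ P.hom
    rw [Category.assoc, Over.w]
  let wO : ∀ p : I, Over.mk (q p) ⟶ 𝒰.V p.1 := fun p => Over.homMk (w p) rfl
  let d : ∀ p : I, Pic (PicF.XT (X ↘ (Spec (CommRingCat.of k))) (Over.mk (q p))) := fun p => pu (X ↘ (Spec (CommRingCat.of k))) (wO p) (c p.1)
  have hd : ∀ p, (cm (f := X ↘ (Spec (CommRingCat.of k))) φ (d p)).left = g p := fun p => by
    have h1 : cm (f := X ↘ (Spec (CommRingCat.of k))) φ (d p) = wO p ≫ 𝒰.j p.1 := by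
      change cm (f := X ↘ (Spec (CommRingCat.of k))) φ (pu (X ↘ (Spec (CommRingCat.of k))) (wO p) (c p.1)) = _
      rw [cm_pu hφ, hc, Category.comp_id]
    rw [h1]
    rfl
  refine (BddPic.iUnion (ι := s) (fun p => {a : Pic X | ∃ (t : (Spec (CommRingCat.of k)) ⟶ W p.1) (ht : t ≫ q p.1 = 𝟙 _),
    fibCl k X (q p.1) t ht (d p.1) = a}) fun p => ?_).mono ?_
  · refine ⟨W p.1, q p.1, ?_, ?_, d p.1, fun a ha => ha⟩
    · rw [hq]
      infer_instance
    · have : IsAffine (W p.1) := p.1.2.2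
      infer_instance
  intro a ha
  obtain ⟨p, hp⟩ := Set.mem_iUnion.1 (hs (ha ⟨IsLocalRing.closedPoint k, rfl⟩))
  obtain ⟨hps, y, hy⟩ := Set.mem_iUnion.1 hp
  obtain ⟨z, -, -⟩ := Scheme.Pullback.exists_preimage_pullback (f := (kpt φ a).left) (g := g p)
    (IsLocalRing.closedPoint k) y hy.symm
  have hne : Nonempty ↥(pullback (kpt φ a).left (g p)) := ⟨z⟩
  have h1 : LocallyOfFiniteType (pullback.fst (kpt φ a).left (g p)) := inferInstance
  obtain ⟨σ, hσ⟩ := exists_point (k := k) (pullback.fst (kpt φ a).left (g p))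
  have hσ' : (σ ≫ pullback.snd (kpt φ a).left (g p)) ≫ g p = (kpt φ a).left := by
    rw [Category.assoc, ← pullback.condition, reassoc_of% hσ]
  have ht : (σ ≫ pullback.snd (kpt φ a).left (g p)) ≫ q p = 𝟙 _ := by
    rw [hq, ← Category.assoc, hσ']
    exact Over.w (kpt φ a)
  refine Set.mem_iUnion.2 ⟨⟨p, hps⟩, _, ht, ?_⟩
  apply kpt_injective hφ
  rw [kpt_fibCl hφ]
  apply Over.OverMorphism.ext
  change _ ≫ (cm (f := X ↘ (Spec (CommRingCat.of k))) φ (d p)).left = _
  rw [hd]
  exact hσ'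

end K991.BddOpen
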